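import Mathlib
import Cfsg.Agent.H540.E8C.L13.Comp

/-!
# The certificate for R2 (computed by machine)
-/

set_option autoImplicit false
set_option maxRecDepth 100000

namespace Cfsg.Agent.H540.E8C.L13

/-- formal sums with equal values -/
def chkEq (L L' : List Tm) : Bool := (norm (L ++ L'.map fun t => ⟨t.b, (2 * t.c) % 3, t.g⟩)).isEmpty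

def KV4 : List (ℕ × M4) := [(1, ⟨1, 0, 0, 1⟩), (1, ⟨5, 0, 0, 8⟩), (1, ⟨0, 1, 12, 0⟩), (1, ⟨0, 5, 5, 0⟩)]
def K26 : List (ℕ × M4) := ((List.range 13).map fun a => (2, ⟨1, a, 0, 1⟩)) ++
  ((List.range 13).map fun a => (2, ⟨5, 8 * a, 0, 8⟩))
def KU : List (ℕ × M4) := (List.range 13).map fun a => (1, ⟨1, a, 0, 1⟩)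
def Kw : List (ℕ × M4) := [(1, ⟨0, 1, 12, 0⟩)]
def KN : List (ℕ × M4) := [(1, ⟨1, 0, 0, 1⟩), (1, ⟨3, 0, 0, 9⟩), (1, ⟨9, 0, 0, 3⟩)]
/-- projection on the vectors fixed by `D14` -/
def K14 : List (ℕ × M4) := [
  (2, ⟨1, 0, 0, 1⟩), (2, ⟨0, 1, 12, 0⟩), (2, ⟨0, 5, 5, 3⟩), (2, ⟨8, 0, 10, 5⟩), (2, ⟨12, 2, 2, 8⟩),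
  (2, ⟨11, 12, 5, 2⟩), (2, ⟨10, 1, 1, 8⟩), (2, ⟨12, 10, 5, 1⟩), (2, ⟨5, 1, 1, 3⟩), (2, ⟨12, 5, 10, 1⟩),
  (2, ⟨5, 2, 2, 1⟩), (2, ⟨11, 5, 12, 2⟩), (2, ⟨10, 5, 5, 0⟩), (2, ⟨8, 10, 0, 5⟩)]
/-- projection on `W2` -/
def KZ : List (ℕ × M4) := ((List.range 13).map fun a => (2, ⟨1, a, 0, 1⟩)) ++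
  ((List.range 13).map fun a => (1, ⟨5, 8 * a, 0, 8⟩))

def sgL (L : List Tm) : List Tm := gop KU (gop Kw L) ++ gop KN L

def comb (phis : List (List Tm)) (sol : List (ℕ × ℕ × M4)) : List Tm :=
  norm (sol.flatMap fun s => (phis.getD s.2.1 []).map fun t => ⟨t.b, (s.1 * t.c) % 3, s.2.2.mul t.g⟩)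

/-- the arguments -/
def T1 : List Tm := [
  ⟨0, 1, ⟨1, 0, 0, 1⟩⟩, ⟨1, 1, ⟨5, 0, 7, 8⟩⟩, ⟨2, 1, ⟨5, 7, 6, 6⟩⟩, ⟨3, 1, ⟨2, 3, 1, 2⟩⟩, ⟨4, 1, ⟨1, 0, 9, 1⟩⟩]

def T2 : List Tm := [
  ⟨0, 1, ⟨1, 0, 0, 1⟩⟩, ⟨2, 1, ⟨6, 7, 10, 1⟩⟩]

def T3 : List Tm := [
  ⟨1, 1, ⟨1, 0, 0, 1⟩⟩, ⟨2, 1, ⟨2, 10, 3, 9⟩⟩]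

def T4 : List Tm := [⟨4, 1, ⟨1, 0, 0, 1⟩⟩]

def F1 : List Tm := [
  ⟨0, 2, ⟨0, 1, 12, 0⟩⟩, ⟨0, 2, ⟨0, 1, 12, 2⟩⟩, ⟨1, 1, ⟨0, 1, 12, 6⟩⟩, ⟨1, 1, ⟨0, 1, 12, 9⟩⟩,
  ⟨1, 1, ⟨0, 4, 3, 8⟩⟩, ⟨1, 1, ⟨0, 4, 3, 12⟩⟩, ⟨2, 1, ⟨0, 4, 3, 2⟩⟩, ⟨2, 1, ⟨0, 4, 3, 5⟩⟩, ⟨2, 1, ⟨1, 2, 6, 0⟩⟩,
  ⟨2, 1, ⟨1, 2, 8, 4⟩⟩, ⟨3, 2, ⟨1, 0, 2, 1⟩⟩, ⟨3, 1, ⟨1, 0, 11, 1⟩⟩, ⟨3, 1, ⟨2, 0, 1, 7⟩⟩, ⟨3, 2, ⟨2, 0, 12, 7⟩⟩,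
  ⟨4, 1, ⟨1, 0, 4, 1⟩⟩, ⟨4, 1, ⟨1, 0, 9, 1⟩⟩, ⟨4, 1, ⟨4, 0, 1, 10⟩⟩, ⟨4, 1, ⟨4, 0, 12, 10⟩⟩]

def F2 : List Tm := [
  ⟨0, 1, ⟨0, 1, 12, 4⟩⟩, ⟨0, 1, ⟨0, 1, 12, 7⟩⟩, ⟨0, 1, ⟨0, 1, 12, 8⟩⟩, ⟨0, 1, ⟨0, 1, 12, 11⟩⟩,
  ⟨0, 1, ⟨0, 2, 6, 2⟩⟩, ⟨0, 2, ⟨0, 2, 6, 3⟩⟩, ⟨0, 1, ⟨0, 2, 6, 6⟩⟩, ⟨0, 1, ⟨0, 2, 6, 7⟩⟩, ⟨0, 1, ⟨0, 2, 6, 8⟩⟩,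
  ⟨0, 2, ⟨0, 2, 6, 11⟩⟩, ⟨0, 1, ⟨0, 2, 6, 12⟩⟩, ⟨0, 2, ⟨0, 4, 3, 0⟩⟩, ⟨0, 1, ⟨0, 4, 3, 2⟩⟩, ⟨0, 1, ⟨0, 4, 3, 3⟩⟩,
  ⟨0, 1, ⟨0, 4, 3, 4⟩⟩, ⟨0, 1, ⟨0, 4, 3, 5⟩⟩, ⟨0, 2, ⟨0, 4, 3, 7⟩⟩, ⟨0, 2, ⟨0, 4, 3, 9⟩⟩, ⟨0, 1, ⟨0, 4, 3, 10⟩⟩,
  ⟨0, 2, ⟨0, 4, 3, 11⟩⟩, ⟨0, 1, ⟨1, 1, 1, 2⟩⟩, ⟨0, 2, ⟨1, 1, 2, 3⟩⟩, ⟨0, 1, ⟨1, 1, 3, 4⟩⟩, ⟨0, 1, ⟨1, 1, 5, 6⟩⟩,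
  ⟨0, 1, ⟨1, 1, 6, 7⟩⟩, ⟨0, 1, ⟨1, 1, 8, 9⟩⟩, ⟨0, 2, ⟨1, 1, 9, 10⟩⟩, ⟨0, 1, ⟨1, 1, 10, 11⟩⟩, ⟨0, 2, ⟨1, 2, 3, 7⟩⟩,
  ⟨0, 1, ⟨1, 2, 4, 9⟩⟩, ⟨0, 2, ⟨1, 2, 7, 2⟩⟩, ⟨0, 1, ⟨1, 2, 10, 8⟩⟩, ⟨0, 2, ⟨1, 2, 11, 10⟩⟩, ⟨0, 1, ⟨1, 5, 1, 6⟩⟩,
  ⟨0, 1, ⟨1, 5, 2, 11⟩⟩, ⟨0, 1, ⟨1, 5, 3, 3⟩⟩, ⟨0, 1, ⟨1, 5, 4, 8⟩⟩, ⟨0, 2, ⟨1, 5, 7, 10⟩⟩, ⟨0, 2, ⟨1, 5, 11, 4⟩⟩,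
  ⟨2, 1, ⟨0, 1, 12, 4⟩⟩, ⟨2, 1, ⟨0, 1, 12, 7⟩⟩, ⟨2, 1, ⟨0, 1, 12, 8⟩⟩, ⟨2, 1, ⟨0, 1, 12, 11⟩⟩,
  ⟨2, 1, ⟨0, 2, 6, 2⟩⟩, ⟨2, 2, ⟨0, 2, 6, 3⟩⟩, ⟨2, 1, ⟨0, 2, 6, 6⟩⟩, ⟨2, 1, ⟨0, 2, 6, 7⟩⟩, ⟨2, 1, ⟨0, 2, 6, 8⟩⟩,
  ⟨2, 2, ⟨0, 2, 6, 11⟩⟩, ⟨2, 1, ⟨0, 2, 6, 12⟩⟩, ⟨2, 2, ⟨0, 4, 3, 0⟩⟩, ⟨2, 1, ⟨0, 4, 3, 2⟩⟩, ⟨2, 1, ⟨0, 4, 3, 3⟩⟩,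
  ⟨2, 1, ⟨0, 4, 3, 4⟩⟩, ⟨2, 1, ⟨0, 4, 3, 5⟩⟩, ⟨2, 2, ⟨0, 4, 3, 7⟩⟩, ⟨2, 2, ⟨0, 4, 3, 9⟩⟩, ⟨2, 1, ⟨0, 4, 3, 10⟩⟩,
  ⟨2, 2, ⟨0, 4, 3, 11⟩⟩, ⟨2, 1, ⟨1, 1, 1, 2⟩⟩, ⟨2, 2, ⟨1, 1, 2, 3⟩⟩, ⟨2, 1, ⟨1, 1, 3, 4⟩⟩, ⟨2, 1, ⟨1, 1, 5, 6⟩⟩,
  ⟨2, 1, ⟨1, 1, 6, 7⟩⟩, ⟨2, 1, ⟨1, 1, 8, 9⟩⟩, ⟨2, 2, ⟨1, 1, 9, 10⟩⟩, ⟨2, 1, ⟨1, 1, 10, 11⟩⟩, ⟨2, 2, ⟨1, 2, 3, 7⟩⟩,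
  ⟨2, 1, ⟨1, 2, 4, 9⟩⟩, ⟨2, 2, ⟨1, 2, 7, 2⟩⟩, ⟨2, 1, ⟨1, 2, 10, 8⟩⟩, ⟨2, 2, ⟨1, 2, 11, 10⟩⟩, ⟨2, 1, ⟨1, 5, 1, 6⟩⟩,
  ⟨2, 1, ⟨1, 5, 2, 11⟩⟩, ⟨2, 1, ⟨1, 5, 3, 3⟩⟩, ⟨2, 1, ⟨1, 5, 4, 8⟩⟩, ⟨2, 2, ⟨1, 5, 7, 10⟩⟩, ⟨2, 2, ⟨1, 5, 11, 4⟩⟩]

def F3 : List Tm := [
  ⟨1, 1, ⟨0, 1, 12, 4⟩⟩, ⟨1, 1, ⟨0, 1, 12, 7⟩⟩, ⟨1, 1, ⟨0, 1, 12, 8⟩⟩, ⟨1, 1, ⟨0, 1, 12, 11⟩⟩,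
  ⟨1, 1, ⟨0, 2, 6, 2⟩⟩, ⟨1, 2, ⟨0, 2, 6, 3⟩⟩, ⟨1, 1, ⟨0, 2, 6, 6⟩⟩, ⟨1, 1, ⟨0, 2, 6, 7⟩⟩, ⟨1, 1, ⟨0, 2, 6, 8⟩⟩,
  ⟨1, 2, ⟨0, 2, 6, 11⟩⟩, ⟨1, 1, ⟨0, 2, 6, 12⟩⟩, ⟨1, 2, ⟨0, 4, 3, 0⟩⟩, ⟨1, 1, ⟨0, 4, 3, 2⟩⟩, ⟨1, 1, ⟨0, 4, 3, 3⟩⟩,
  ⟨1, 1, ⟨0, 4, 3, 4⟩⟩, ⟨1, 1, ⟨0, 4, 3, 5⟩⟩, ⟨1, 2, ⟨0, 4, 3, 7⟩⟩, ⟨1, 2, ⟨0, 4, 3, 9⟩⟩, ⟨1, 1, ⟨0, 4, 3, 10⟩⟩,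
  ⟨1, 2, ⟨0, 4, 3, 11⟩⟩, ⟨1, 1, ⟨1, 1, 1, 2⟩⟩, ⟨1, 2, ⟨1, 1, 2, 3⟩⟩, ⟨1, 1, ⟨1, 1, 3, 4⟩⟩, ⟨1, 1, ⟨1, 1, 5, 6⟩⟩,
  ⟨1, 1, ⟨1, 1, 6, 7⟩⟩, ⟨1, 1, ⟨1, 1, 8, 9⟩⟩, ⟨1, 2, ⟨1, 1, 9, 10⟩⟩, ⟨1, 1, ⟨1, 1, 10, 11⟩⟩, ⟨1, 2, ⟨1, 2, 3, 7⟩⟩,
  ⟨1, 1, ⟨1, 2, 4, 9⟩⟩, ⟨1, 2, ⟨1, 2, 7, 2⟩⟩, ⟨1, 1, ⟨1, 2, 10, 8⟩⟩, ⟨1, 2, ⟨1, 2, 11, 10⟩⟩, ⟨1, 1, ⟨1, 5, 1, 6⟩⟩,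
  ⟨1, 1, ⟨1, 5, 2, 11⟩⟩, ⟨1, 1, ⟨1, 5, 3, 3⟩⟩, ⟨1, 1, ⟨1, 5, 4, 8⟩⟩, ⟨1, 2, ⟨1, 5, 7, 10⟩⟩, ⟨1, 2, ⟨1, 5, 11, 4⟩⟩,
  ⟨2, 2, ⟨0, 1, 12, 0⟩⟩, ⟨2, 1, ⟨0, 1, 12, 1⟩⟩, ⟨2, 2, ⟨0, 1, 12, 2⟩⟩, ⟨2, 1, ⟨0, 1, 12, 3⟩⟩,
  ⟨2, 2, ⟨0, 1, 12, 5⟩⟩, ⟨2, 1, ⟨0, 1, 12, 6⟩⟩, ⟨2, 1, ⟨0, 1, 12, 7⟩⟩, ⟨2, 1, ⟨0, 1, 12, 8⟩⟩,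
  ⟨2, 1, ⟨0, 1, 12, 9⟩⟩, ⟨2, 2, ⟨0, 1, 12, 10⟩⟩, ⟨2, 1, ⟨0, 1, 12, 12⟩⟩, ⟨2, 1, ⟨0, 2, 6, 0⟩⟩,
  ⟨2, 1, ⟨0, 2, 6, 1⟩⟩, ⟨2, 1, ⟨0, 2, 6, 2⟩⟩, ⟨2, 2, ⟨0, 2, 6, 3⟩⟩, ⟨2, 1, ⟨0, 2, 6, 4⟩⟩, ⟨2, 1, ⟨0, 2, 6, 5⟩⟩,
  ⟨2, 1, ⟨0, 2, 6, 9⟩⟩, ⟨2, 1, ⟨0, 2, 6, 10⟩⟩, ⟨2, 2, ⟨0, 2, 6, 11⟩⟩, ⟨2, 1, ⟨0, 2, 6, 12⟩⟩, ⟨2, 2, ⟨0, 4, 3, 0⟩⟩,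
  ⟨2, 1, ⟨0, 4, 3, 1⟩⟩, ⟨2, 1, ⟨0, 4, 3, 3⟩⟩, ⟨2, 1, ⟨0, 4, 3, 4⟩⟩, ⟨2, 1, ⟨0, 4, 3, 6⟩⟩, ⟨2, 2, ⟨0, 4, 3, 7⟩⟩,
  ⟨2, 2, ⟨0, 4, 3, 8⟩⟩, ⟨2, 2, ⟨0, 4, 3, 9⟩⟩, ⟨2, 1, ⟨0, 4, 3, 10⟩⟩, ⟨2, 2, ⟨0, 4, 3, 11⟩⟩, ⟨2, 2, ⟨0, 4, 3, 12⟩⟩,
  ⟨2, 2, ⟨1, 1, 0, 1⟩⟩, ⟨2, 2, ⟨1, 1, 2, 3⟩⟩, ⟨2, 1, ⟨1, 1, 3, 4⟩⟩, ⟨2, 1, ⟨1, 1, 4, 5⟩⟩, ⟨2, 1, ⟨1, 1, 7, 8⟩⟩,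
  ⟨2, 1, ⟨1, 1, 8, 9⟩⟩, ⟨2, 2, ⟨1, 1, 9, 10⟩⟩, ⟨2, 2, ⟨1, 1, 11, 12⟩⟩, ⟨2, 2, ⟨1, 1, 12, 0⟩⟩,
  ⟨2, 2, ⟨1, 2, 0, 1⟩⟩, ⟨2, 2, ⟨1, 2, 1, 3⟩⟩, ⟨2, 1, ⟨1, 2, 2, 5⟩⟩, ⟨2, 2, ⟨1, 2, 3, 7⟩⟩, ⟨2, 1, ⟨1, 2, 5, 11⟩⟩,
  ⟨2, 1, ⟨1, 2, 6, 0⟩⟩, ⟨2, 2, ⟨1, 2, 7, 2⟩⟩, ⟨2, 1, ⟨1, 2, 8, 4⟩⟩, ⟨2, 1, ⟨1, 2, 9, 6⟩⟩, ⟨2, 2, ⟨1, 2, 11, 10⟩⟩,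
  ⟨2, 1, ⟨1, 2, 12, 12⟩⟩, ⟨2, 2, ⟨1, 5, 0, 1⟩⟩, ⟨2, 1, ⟨1, 5, 1, 6⟩⟩, ⟨2, 1, ⟨1, 5, 2, 11⟩⟩, ⟨2, 1, ⟨1, 5, 3, 3⟩⟩,
  ⟨2, 1, ⟨1, 5, 4, 8⟩⟩, ⟨2, 2, ⟨1, 5, 5, 0⟩⟩, ⟨2, 1, ⟨1, 5, 6, 5⟩⟩, ⟨2, 2, ⟨1, 5, 7, 10⟩⟩, ⟨2, 1, ⟨1, 5, 8, 2⟩⟩,
  ⟨2, 1, ⟨1, 5, 9, 7⟩⟩, ⟨2, 1, ⟨1, 5, 10, 12⟩⟩, ⟨2, 2, ⟨1, 5, 11, 4⟩⟩, ⟨2, 1, ⟨1, 5, 12, 9⟩⟩]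

def F4 : List Tm := [
  ⟨4, 1, ⟨0, 1, 12, 0⟩⟩, ⟨4, 2, ⟨1, 0, 0, 1⟩⟩, ⟨4, 1, ⟨1, 0, 1, 1⟩⟩, ⟨4, 1, ⟨1, 0, 5, 1⟩⟩, ⟨4, 1, ⟨1, 0, 8, 1⟩⟩,
  ⟨4, 1, ⟨1, 0, 12, 1⟩⟩, ⟨4, 1, ⟨2, 0, 0, 7⟩⟩, ⟨4, 1, ⟨2, 0, 1, 7⟩⟩, ⟨4, 1, ⟨2, 0, 5, 7⟩⟩, ⟨4, 1, ⟨2, 0, 8, 7⟩⟩,
  ⟨4, 1, ⟨2, 0, 12, 7⟩⟩, ⟨4, 1, ⟨4, 0, 0, 10⟩⟩, ⟨4, 1, ⟨4, 0, 1, 10⟩⟩, ⟨4, 1, ⟨4, 0, 5, 10⟩⟩,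
  ⟨4, 1, ⟨4, 0, 8, 10⟩⟩, ⟨4, 1, ⟨4, 0, 12, 10⟩⟩]

def sol0 : List (ℕ × ℕ × M4) := [
  (1, 0, ⟨0, 2, 6, 0⟩), (2, 0, ⟨1, 1, 1, 2⟩), (1, 2, ⟨0, 1, 12, 0⟩), (1, 3, ⟨0, 1, 12, 0⟩), (1, 2, ⟨1, 0, 1, 1⟩),
  (1, 0, ⟨0, 1, 12, 12⟩), (2, 0, ⟨0, 1, 12, 0⟩), (1, 0, ⟨0, 1, 12, 1⟩), (1, 0, ⟨0, 2, 6, 2⟩),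
  (2, 0, ⟨0, 4, 3, 2⟩), (2, 0, ⟨0, 4, 3, 9⟩), (2, 0, ⟨0, 2, 6, 11⟩), (1, 0, ⟨1, 2, 5, 11⟩), (2, 0, ⟨0, 1, 12, 2⟩),
  (1, 0, ⟨0, 4, 3, 1⟩), (2, 0, ⟨1, 1, 5, 6⟩), (2, 0, ⟨0, 2, 6, 4⟩), (1, 0, ⟨1, 4, 9, 11⟩), (2, 0, ⟨0, 1, 12, 3⟩)]

def sol1 : List (ℕ × ℕ × M4) := [
  (1, 0, ⟨0, 1, 12, 4⟩), (1, 3, ⟨1, 0, 5, 1⟩), (1, 0, ⟨0, 1, 12, 2⟩), (2, 0, ⟨0, 1, 12, 3⟩), (2, 0, ⟨0, 2, 6, 3⟩),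
  (1, 0, ⟨0, 1, 12, 5⟩), (1, 3, ⟨1, 0, 1, 1⟩), (2, 0, ⟨1, 3, 1, 4⟩), (2, 0, ⟨0, 2, 6, 2⟩), (2, 0, ⟨0, 2, 6, 0⟩),
  (2, 0, ⟨1, 2, 5, 11⟩), (2, 0, ⟨0, 4, 3, 2⟩), (2, 3, ⟨0, 1, 12, 0⟩), (2, 1, ⟨0, 1, 12, 0⟩), (2, 0, ⟨0, 2, 6, 4⟩),
  (1, 0, ⟨1, 3, 9, 2⟩), (2, 0, ⟨1, 4, 9, 11⟩)]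

def sol2 : List (ℕ × ℕ × M4) := [
  (2, 0, ⟨0, 2, 6, 10⟩), (1, 1, ⟨1, 0, 2, 1⟩), (1, 0, ⟨0, 4, 3, 2⟩), (2, 0, ⟨0, 4, 3, 8⟩), (2, 0, ⟨1, 3, 9, 2⟩),
  (1, 0, ⟨0, 2, 6, 0⟩), (2, 0, ⟨0, 2, 6, 2⟩), (2, 0, ⟨1, 2, 5, 11⟩), (2, 0, ⟨0, 1, 12, 3⟩), (1, 0, ⟨0, 1, 12, 0⟩),
  (2, 3, ⟨1, 0, 1, 1⟩), (1, 2, ⟨0, 2, 6, 0⟩), (2, 0, ⟨0, 4, 3, 1⟩)]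

def sol3 : List (ℕ × ℕ × M4) := [
  (2, 0, ⟨0, 1, 12, 4⟩), (1, 0, ⟨0, 2, 6, 2⟩), (2, 0, ⟨0, 1, 12, 3⟩), (1, 0, ⟨0, 1, 12, 2⟩)]

def sol4 : List (ℕ × ℕ × M4) := [
  (2, 0, ⟨0, 4, 3, 2⟩), (1, 3, ⟨0, 2, 6, 0⟩), (2, 0, ⟨0, 1, 12, 6⟩), (1, 2, ⟨4, 0, 0, 10⟩), (1, 2, ⟨1, 0, 0, 1⟩),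
  (1, 0, ⟨0, 1, 12, 5⟩), (1, 3, ⟨2, 0, 0, 7⟩), (2, 0, ⟨0, 4, 3, 0⟩), (1, 0, ⟨0, 1, 12, 0⟩), (2, 0, ⟨0, 1, 12, 3⟩),
  (1, 0, ⟨0, 2, 6, 4⟩), (1, 2, ⟨0, 4, 3, 0⟩), (1, 0, ⟨0, 1, 12, 2⟩)]

theorem chk1 : chkEq (gop KV4 T1) F1 = true := by decide +kernel
theorem chk2 : chkEq (let y := gop K26 T2; y ++ sgL y) (F2.map fun t => ⟨t.b, (2 * t.c) % 3, t.g⟩) = true := by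
  decide +kernel
theorem chk3 : chkEq (let y := gop K26 T3; y ++ sgL y) (F3.map fun t => ⟨t.b, (2 * t.c) % 3, t.g⟩) = true := by
  decide +kernel
theorem chk4 : chkEq (T4 ++ sgL T4) F4 = true := by decide +kernel
theorem chks : chkEq (sgL (sgL T4)) T4 = true := by decide +kernel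
theorem chks0 : chkEq (gop K14 (comb [F1, F2, F3, F4] sol0)) [⟨0, 1, ⟨1, 0, 0, 1⟩⟩] = true := by decide +kernel
theorem chks1 : chkEq (gop K14 (comb [F1, F2, F3, F4] sol1)) [⟨1, 1, ⟨1, 0, 0, 1⟩⟩] = true := by decide +kernel
theorem chks2 : chkEq (gop K14 (comb [F1, F2, F3, F4] sol2)) [⟨2, 1, ⟨1, 0, 0, 1⟩⟩] = true := by decide +kernel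
theorem chks3 : chkEq (gop KZ (comb [F1, F2, F3, F4] sol3)) [⟨3, 1, ⟨1, 0, 0, 1⟩⟩] = true := by decide +kernel
theorem chks4 : chkEq (gop K26 (comb [F1, F2, F3, F4] sol4)) [⟨4, 1, ⟨1, 0, 0, 1⟩⟩] = true := by decide +kernel

end Cfsg.Agent.H540.E8C.L13
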