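import Mathlib
import Cfsg.Agent.H540.E8C.L13.Iface
import Cfsg.Agent.H540.E8C.Main
import Cfsg.Agent.H540.E8C.End

/-!
# S5919, the row `PSL₂(13)`: interface, second part (helper540)
-/

set_option autoImplicit false
set_option maxRecDepth 100000

namespace Cfsg.Agent.H540.E8C.L13

open Cfsg Cfsg.Lie Module
open Cfsg.Agent.H540.E8C.End

universe u

/-- the representation on the adjoint module; `rp F g v = ac (F g) v` by `rfl` -/
noncomputable def rp {G : Type*} [Group G] (F : G →* E) : Representation (ZMod 3) G LL :=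
  ((Matrix.toLinAlgEquiv' : Matrix chevE8.Idx chevE8.Idx (ZMod 3) ≃ₐ[ZMod 3]
    ((chevE8.Idx → ZMod 3) →ₗ[ZMod 3] (chevE8.Idx → ZMod 3))) :
      Matrix chevE8.Idx chevE8.Idx (ZMod 3) →* ((chevE8.Idx → ZMod 3) →ₗ[ZMod 3] (chevE8.Idx → ZMod 3))).comp
    ((Units.coeHom (Matrix chevE8.Idx chevE8.Idx (ZMod 3))).comp ((chevE8.group (ZMod 3)).subtype.comp F))

theorem rp_apply {G : Type*} [Group G] (F : G →* E) (g : G) (v : LL) : rp F g v = ac (F g) v := rfl

/-- the trace zero matrix normalised by `D14` -/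
def M0 : Matrix (Fin 2) (Fin 2) (ZMod 13) := !![5, 5; 5, 8]

/-- the dihedral group of order 14 (28 elements of `SL₂(13)`; generated by `c7`, `ww`, `-1`) -/
def P14 (g : Q) : Prop := g.1 * M0 = M0 * g.1 ∨ g.1 * M0 = -(M0 * g.1)

/-- an element of order 7 modulo `-1` of `P14`, inverted by `ww` modulo `-1` -/
def c7 : Q := ⟨!![0, 5; 5, 3], by decide⟩

/-- generators of the four-group -/
def PV4 (g : Q) : Prop := g = tt ∨ g = ww

def PU (g : Q) : Prop := ∃ a, g = uu a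

/-- the vectors fixed by `U` and inverted by `tt` -/
def W2 {V : Type*} [AddCommGroup V] [Module (ZMod 3) V] (ρ : Representation (ZMod 3) Q V) : Submodule (ZMod 3) V where
  carrier := {v | (∀ a, ρ (uu a) v = v) ∧ ρ tt v = - v}
  add_mem' := fun ha hb => ⟨fun a => by rw [map_add, ha.1 a, hb.1 a], by rw [map_add, ha.2, hb.2, neg_add]⟩
  zero_mem' := ⟨fun a => map_zero _, by rw [map_zero, neg_zero]⟩
  smul_mem' := fun c v hv => ⟨fun a => by rw [map_smul, hv.1 a], by rw [map_smul, hv.2, smul_neg]⟩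

/-- **R2** (helper540) -/
def R2 : Prop := ∀ (V : Type) [AddCommGroup V] [Module (ZMod 3) V] [Module.Finite (ZMod 3) V]
    (ρ : Representation (ZMod 3) Q V) (_ : ρ (-1) = 1),
    3 * finrank (ZMod 3) (fixP ρ P14) + finrank (ZMod 3) (W2 ρ) + finrank (ZMod 3) (XX ρ (-1)) ≤
      finrank (ZMod 3) (fixP ρ PV4) + 2 * finrank (ZMod 3) (XX ρ 1)

/-- **Task NUM13** -/
def Num13 : Prop := ∀ (F : Q →* E) (_ : ∀ g, F g = 1 ↔ g = 1 ∨ g = -1),
    (∃ t2 t7 : ℤ, (t2 = -8 ∨ t2 = 24) ∧ (t7 = 3 ∨ t7 = 52) ∧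
      14 * (finrank (ZMod 3) (fixP (rp F) P14) : ℤ) = 248 + 6 * t7 + 7 * t2 ∧
      2 * (finrank (ZMod 3) (W2 (rp F)) : ℤ) = finrank (ZMod 3) (fixP (rp F) PU) - t2 ∧
      4 * (finrank (ZMod 3) (fixP (rp F) PV4) : ℤ) = 248 + 3 * t2) ∧
    (((finrank (ZMod 3) (fixP (rp F) PU) = 20 ∨ finrank (ZMod 3) (fixP (rp F) PU) = 32) ∧ Partner 13 (F (uu 1))) ∨
      (finrank (ZMod 3) (fixP (rp F) PU) = 38 ∧
        1360894629560719968 ≤ Nat.card ↥(Subgroup.centralizer {F (uu 1)})) ∨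
      (finrank (ZMod 3) (fixP (rp F) PU) = 80 ∧
        18743628421389393110651003031810837312 ≤ Nat.card ↥(Subgroup.centralizer {F (uu 1)}))) ∧
    Nat.card {v : LL // ac (F (uu 1)) v = v} = 3 ^ finrank (ZMod 3) (fixP (rp F) PU)

/-- the row `PSL₂(13)` -/
def Row13 : Prop := ∀ (F : Type u) [Field F] [Fintype F] (_ : Fintype.card F = 13) (H : Subgroup E)
    (_ : Nonempty (↥(Cfsg.generalizedFittingSubgroup ↥H) ≃* Matrix.ProjectiveSpecialLinearGroup (Fin 2) F)),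
    ¬ IsCoatom H

end Cfsg.Agent.H540.E8C.L13
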