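import Mathlib
import Cfsg.Agent.H540.E8C.L13.Data
import Cfsg.Agent.H540.E8C.L13.Iface2

/-!
# S5919, the row `PSL₂(13)`: R2
-/

set_option autoImplicit false
set_option linter.unusedSectionVars false
set_option maxRecDepth 100000

namespace Cfsg.Agent.H540.E8C.L13

open Module

section

variable {V : Type*} [AddCommGroup V] [Module (ZMod 3) V] {ρ : Representation (ZMod 3) Q V}

theorem two_smul' (v : V) : (2 : ZMod 3) • v = - v := by
  have : (2 : ZMod 3) = -1 := by decide
  rw [this, neg_smul, one_smul]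

section chk

variable {x : ℕ → V}

theorem evL_scale (n : ℕ) (L : List Tm) : evL ρ x (L.map fun t => ⟨t.b, (n * t.c) % 3, t.g⟩) =
    (n : ZMod 3) • evL ρ x L := by
  induction L with
  | nil => simp [evL]
  | cons t L ih =>
    rw [List.map_cons, evL_cons, evL_cons, ih, smul_add]
    congr 1
    unfold ev
    show (((n * t.c) % 3 : ℕ) : ZMod 3) • _ = _
    rw [castmod3, smul_smul]
    push_cast
    rfl

theorem eq_of_chk (h : Good ρ x) {L L' : List Tm} (hc : chkEq L L' = true) : evL ρ x L = evL ρ x L' := by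
  unfold chkEq at hc
  rw [List.isEmpty_iff] at hc
  have h1 := evL_norm h (L ++ L'.map fun t => ⟨t.b, (2 * t.c) % 3, t.g⟩)
  rw [hc, evL_nil, evL_append, evL_scale] at h1
  have h2 : ((2 : ℕ) : ZMod 3) • evL ρ x L' = - evL ρ x L' := by
    rw [Nat.cast_ofNat]
    exact two_smul' _
  rw [h2] at h1
  exact (sub_eq_zero.1 (by rw [sub_eq_add_neg]; exact h1.symm))

theorem evL_comb (h : Good ρ x) (phis : List (List Tm)) (hz : ∀ i, evL ρ x (phis.getD i []) = 0)
    (sol : List (ℕ × ℕ × M4)) (hs : sol.all (fun s => s.2.2.ok) = true) : evL ρ x (comb phis sol) = 0 := by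
  unfold comb
  rw [evL_norm h]
  induction sol with
  | nil => simp [evL]
  | cons s sol ih =>
    rw [List.all_cons, Bool.and_eq_true] at hs
    rw [List.flatMap_cons, evL_append, ih hs.2, add_zero]
    have h1 := evL_raw (ρ := ρ) (x := x) [(s.1, s.2.2)] (by simpa using hs.1) (phis.getD s.2.1 [])
    rw [hz] at h1
    simp only [List.flatMap_cons, List.flatMap_nil, List.append_nil, map_zero] at h1
    exact h1

end chk

theorem neg_act (hneg : ρ (-1) = 1) (g : Q) (v : V) : ρ (-g) v = ρ g v := by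
  have h1 : -g = (-1 : Q) * g := by rw [neg_mul, one_mul]
  rw [h1, map_mul, hneg]
  rfl

theorem toM_m0 : m0.toM = M0 := by
  unfold m0 M4.toM M0
  norm_num

theorem nat_eq_of (a b : ℕ) (h : (Nat.beq (a % 13) (b % 13)) = true) : (a : ZMod 13) = b := by
  have := Nat.eq_of_beq_eq_true h
  rw [← M4.castmod a, this, M4.castmod]

/-- the basic vectors of a tuple -/
def XL (b : ℕ) : (V × V × V × V × V) →ₗ[ZMod 3] V :=
  if b = 0 then LinearMap.fst _ _ _ else
  if b = 1 then LinearMap.fst _ _ _ ∘ₗ LinearMap.snd _ _ _ else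
  if b = 2 then LinearMap.fst _ _ _ ∘ₗ LinearMap.snd _ _ _ ∘ₗ LinearMap.snd _ _ _ else
  if b = 3 then LinearMap.fst _ _ _ ∘ₗ LinearMap.snd _ _ _ ∘ₗ LinearMap.snd _ _ _ ∘ₗ LinearMap.snd _ _ _ else
  if b = 4 then LinearMap.snd _ _ _ ∘ₗ LinearMap.snd _ _ _ ∘ₗ LinearMap.snd _ _ _ ∘ₗ LinearMap.snd _ _ _ else 0

/-- the vectors fixed by `D26` -/
def W1 (ρ : Representation (ZMod 3) Q V) : Submodule (ZMod 3) V where
  carrier := {v | (∀ a, ρ (uu a) v = v) ∧ ρ tt v = v}
  add_mem' := fun ha hb => ⟨fun a => by rw [map_add, ha.1 a, hb.1 a], by rw [map_add, ha.2, hb.2]⟩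
  zero_mem' := ⟨fun a => map_zero _, map_zero _⟩
  smul_mem' := fun c v hv => ⟨fun a => by rw [map_smul, hv.1 a], by rw [map_smul, hv.2]⟩

theorem entry_a (k : M4) : k.toM 0 0 = (k.a : ZMod 13) := rfl
theorem entry_b (k : M4) : k.toM 0 1 = (k.b : ZMod 13) := rfl
theorem entry_c (k : M4) : k.toM 1 0 = (k.c : ZMod 13) := rfl
theorem entry_d (k : M4) : k.toM 1 1 = (k.d : ZMod 13) := rfl

/-- upper triangular matrices -/
theorem upper {k : M4} (hk : k.toM.det = 1) (hc : (k.c : ZMod 13) = 0) :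
    ((k.a : ZMod 13) = 1 → mkQ k hk = uu k.b) ∧ ((k.a : ZMod 13) = 12 → mkQ k hk = - uu (- k.b)) ∧
    ((k.a : ZMod 13) = 5 → mkQ k hk = tt * uu (8 * k.b)) ∧ ((k.a : ZMod 13) = 8 → mkQ k hk = - (tt * uu (8 * (- k.b)))) := by
  have hdet : (k.a : ZMod 13) * k.d = 1 := by
    have h1 := hk
    unfold M4.toM at h1
    rw [Matrix.det_fin_two_of, hc, mul_zero, sub_zero] at h1
    exact h1
  have hcan : ∀ a d : ZMod 13, a * d = 1 → (a = 1 → d = 1) ∧ (a = 12 → d = -1) ∧ (a = 5 → d = 8) ∧ (a = 8 → d = 5) := by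
    decide
  obtain ⟨d1, d2, d3, d4⟩ := hcan _ _ hdet
  have e12 : (12 : ZMod 13) = -1 := by decide
  refine ⟨fun h => ?_, fun h => ?_, fun h => ?_, fun h => ?_⟩
  · have := d1 h
    apply Subtype.ext
    show k.toM = !![1, (k.b : ZMod 13); 0, 1]
    unfold M4.toM
    rw [h, hc, this]
  · have := d2 h
    apply Subtype.ext
    show k.toM = - !![1, -(k.b : ZMod 13); 0, 1]
    unfold M4.toM
    rw [h, hc, this, e12]
    ext i j
    fin_cases i <;> fin_cases j <;> simp
  · have := d3 h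
    apply Subtype.ext
    show k.toM = !![5, 0; 0, 8] * !![1, 8 * (k.b : ZMod 13); 0, 1]
    unfold M4.toM
    rw [h, hc, this, Matrix.mul_fin_two]
    have e : (5 : ZMod 13) * (8 * (k.b : ZMod 13)) = k.b := by
      rw [← mul_assoc, show (5 : ZMod 13) * 8 = 1 by decide, one_mul]
    simp [e]
  · have := d4 h
    apply Subtype.ext
    show k.toM = - (!![5, 0; 0, 8] * !![1, 8 * (-(k.b : ZMod 13)); 0, 1])
    unfold M4.toM
    rw [h, hc, this, Matrix.mul_fin_two]
    have e : (5 : ZMod 13) * (8 * ((k.b : ZMod 13))) = k.b := by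
      rw [← mul_assoc, show (5 : ZMod 13) * 8 = 1 by decide, one_mul]
    have e5 : (-5 : ZMod 13) = 8 := by decide
    have e8 : (-8 : ZMod 13) = 5 := by decide
    ext i j
    fin_cases i <;> fin_cases j <;> simp [e, e5, e8]

theorem good (hneg : ρ (-1) = 1) {p : V × V × V × V × V} (h0 : p.1 ∈ fixP ρ P14) (h1 : p.2.1 ∈ fixP ρ P14)
    (h2 : p.2.2.1 ∈ fixP ρ P14) (h3 : p.2.2.2.1 ∈ W2 ρ) (h4 : p.2.2.2.2 ∈ W1 ρ) : Good ρ (fun b => XL b p) := by
  intro b k hk hch
  rw [rM_of ρ hk]
  by_cases hb : b < 3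
  · -- the dihedral group of order 14
    have hx : XL b p ∈ fixP ρ P14 := by
      have hb' : b = 0 ∨ b = 1 ∨ b = 2 := by omega
      rcases hb' with rfl | rfl | rfl
      · exact h0
      · exact h1
      · exact h2
    have hlt : Nat.blt b 3 = true := by rw [Nat.blt_eq]; exact hb
    have hch' := hch
    unfold kchar at hch' ⊢
    rw [hlt, cond_true] at hch' ⊢
    have key : P14 (mkQ k hk) → ρ (mkQ k hk) (XL b p) = (1 : ZMod 3) • XL b p := fun h => by
      rw [one_smul]
      exact hx _ h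
    cases hA : (Nat.beq (k.mul m0).a (m0.mul k).a && Nat.beq (k.mul m0).b (m0.mul k).b &&
        Nat.beq (k.mul m0).c (m0.mul k).c && Nat.beq (k.mul m0).d (m0.mul k).d) with
    | true =>
      have hP : P14 (mkQ k hk) := by
        left
        show k.toM * M0 = M0 * k.toM
        simp only [Bool.and_eq_true] at hA
        obtain ⟨⟨⟨a1, a2⟩, a3⟩, a4⟩ := hA
        rw [← toM_m0, ← M4.toM_mul, ← M4.toM_mul]
        unfold M4.toM
        rw [Nat.eq_of_beq_eq_true a1, Nat.eq_of_beq_eq_true a2, Nat.eq_of_beq_eq_true a3, Nat.eq_of_beq_eq_true a4]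
      have := key hP
      simp only [hA, cond_true, Nat.cast_one]
      exact this
    | false =>
      simp only [hA, cond_false] at hch' ⊢
      cases hB : (Nat.beq (((k.mul m0).a + (m0.mul k).a) % 13) 0 && Nat.beq (((k.mul m0).b + (m0.mul k).b) % 13) 0 &&
          Nat.beq (((k.mul m0).c + (m0.mul k).c) % 13) 0 && Nat.beq (((k.mul m0).d + (m0.mul k).d) % 13) 0) with
      | false => rw [hB] at hch'; exact absurd rfl hch'
      | true =>
        have hP : P14 (mkQ k hk) := by
          right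
          show k.toM * M0 = - (M0 * k.toM)
          simp only [Bool.and_eq_true] at hB
          obtain ⟨⟨⟨a1, a2⟩, a3⟩, a4⟩ := hB
          have hz : ∀ m n : ℕ, Nat.beq ((m + n) % 13) 0 = true → (m : ZMod 13) = - (n : ZMod 13) := by
            intro m n h
            have h5 := congrArg (fun n : ℕ => (n : ZMod 13)) (Nat.eq_of_beq_eq_true h)
            simp only [M4.castmod] at h5
            push_cast at h5
            exact eq_neg_of_add_eq_zero_left h5
          rw [← toM_m0, ← M4.toM_mul, ← M4.toM_mul]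
          unfold M4.toM
          rw [hz _ _ a1, hz _ _ a2, hz _ _ a3, hz _ _ a4]
          ext i j
          fin_cases i <;> fin_cases j <;> simp
        have := key hP
        rw [cond_true, Nat.cast_one]
        exact this
  · -- the group of order 26
    have hlt : Nat.blt b 3 = false := by
      cases h : Nat.blt b 3 with
      | false => rfl
      | true => rw [Nat.blt_eq] at h; exact absurd h hb
    have hch' := hch
    unfold kchar at hch' ⊢
    rw [hlt, cond_false] at hch' ⊢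
    cases hc : Nat.beq (k.c % 13) 0 with
    | false => rw [hc] at hch'; exact absurd rfl hch'
    | true =>
      rw [hc, cond_true] at hch'
      rw [cond_true]
      have hc0 : (k.c : ZMod 13) = 0 := by
        rw [← M4.castmod, Nat.eq_of_beq_eq_true hc, Nat.cast_zero]
      obtain ⟨u1, u2, u3, u4⟩ := upper hk hc0
      have hval : ∀ n : ℕ, Nat.beq (k.a % 13) n = true → (k.a : ZMod 13) = n := by
        intro n h
        rw [← M4.castmod, Nat.eq_of_beq_eq_true h]
      have hU : ∀ a : ZMod 13, ρ (uu a) (XL b p) = XL b p := by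
        intro a
        by_cases hb3 : b = 3
        · subst hb3
          exact h3.1 a
        · by_cases hb4 : b = 4
          · subst hb4
            exact h4.1 a
          · have : (XL b : (V × V × V × V × V) →ₗ[ZMod 3] V) = 0 := by
              unfold XL
              rw [if_neg (by omega), if_neg (by omega), if_neg (by omega), if_neg hb3, if_neg hb4]
            rw [this]
            simp
      cases hA : (Nat.beq (k.a % 13) 1 || Nat.beq (k.a % 13) 12) with
      | true =>
        rw [cond_true, Nat.cast_one, one_smul]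
        rw [Bool.or_eq_true] at hA
        rcases hA with hA | hA
        · have := hval _ hA
          rw [u1 (by rw [this]; norm_num)]
          exact hU _
        · have := hval _ hA
          rw [u2 (by rw [this]; norm_num), neg_act hneg]
          exact hU _
      | false =>
        rw [hA, cond_false] at hch'
        rw [cond_false]
        cases hB : (Nat.beq (k.a % 13) 5 || Nat.beq (k.a % 13) 8) with
        | false => rw [hB] at hch'; exact absurd rfl hch'
        | true =>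
          rw [hB, cond_true] at hch'
          rw [cond_true]
          have hT : ρ (mkQ k hk) (XL b p) = ρ tt (XL b p) := by
            rw [Bool.or_eq_true] at hB
            rcases hB with hB | hB
            · have := hval _ hB
              rw [u3 (by rw [this]; norm_num), map_mul, Module.End.mul_apply, hU]
            · have := hval _ hB
              rw [u4 (by rw [this]; norm_num), neg_act hneg, map_mul, Module.End.mul_apply, hU]
          rw [hT]
          cases h3' : Nat.beq b 3 with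
          | true =>
            have hb3 := Nat.eq_of_beq_eq_true h3'
            subst hb3
            rw [cond_true, Nat.cast_ofNat]
            rw [two_smul']
            exact h3.2
          | false =>
            rw [h3', cond_false] at hch'
            rw [cond_false]
            cases h4' : Nat.beq b 4 with
            | true =>
              have hb4 := Nat.eq_of_beq_eq_true h4'
              subst hb4
              rw [cond_true, Nat.cast_one, one_smul]
              exact h4.2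
            | false => rw [h4'] at hch'; exact absurd rfl hch'

/-! ### the maps -/

theorem sum13 {M : Type*} [AddCommMonoid M] (f : ℕ → M) :
    ((List.range 13).map f).sum = ∑ a : ZMod 13, f a.val := by
  have h1 : ((List.range 13).map f).sum = ∑ i ∈ Finset.range 13, f i := rfl
  rw [h1, Finset.sum_range]
  rfl

theorem opK_append (K K' : List (ℕ × M4)) (v : V) : opK ρ (K ++ K') v = opK ρ K v + opK ρ K' v := by
  simp [opK]

theorem opK_range (c : ℕ) (f : ℕ → M4) (v : V) :
    opK ρ ((List.range 13).map fun a => (c, f a)) v = (c : ZMod 3) • ∑ a : ZMod 13, rM ρ (f a.val) v := by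
  have h1 : opK ρ ((List.range 13).map fun a => (c, f a)) v =
      ((List.range 13).map fun a => (c : ZMod 3) • rM ρ (f a) v).sum := by
    unfold opK
    generalize List.range 13 = L
    induction L with
    | nil => simp
    | cons a L ih =>
      rw [List.map_cons, List.map_cons, List.sum_cons, List.map_cons, List.sum_cons, LinearMap.add_apply, ih]
      rfl
  rw [h1, sum13, Finset.smul_sum]

theorem rM_eq {k : M4} {g : Q} (h : k.toM = g.1) : rM ρ k = ρ g := by
  have hk : k.toM.det = 1 := by rw [h]; exact g.2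
  rw [rM_of ρ hk]
  congr 1
  exact Subtype.ext h

theorem rM_uu (a : ZMod 13) : rM ρ ⟨1, a.val, 0, 1⟩ = ρ (uu a) := by
  apply rM_eq
  show !![((1 : ℕ) : ZMod 13), ((a.val : ℕ) : ZMod 13); ((0 : ℕ) : ZMod 13), ((1 : ℕ) : ZMod 13)] = !![1, a; 0, 1]
  rw [ZMod.natCast_zmod_val, Nat.cast_one, Nat.cast_zero]

theorem rM_uut (a : ZMod 13) : rM ρ ⟨5, 8 * a.val, 0, 8⟩ = ρ (uu a) * ρ tt := by
  rw [← map_mul]
  apply rM_eq
  show !![((5 : ℕ) : ZMod 13), ((8 * a.val : ℕ) : ZMod 13); ((0 : ℕ) : ZMod 13), ((8 : ℕ) : ZMod 13)] =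
    !![1, a; 0, 1] * !![5, 0; 0, 8]
  rw [Nat.cast_mul, ZMod.natCast_zmod_val, Matrix.mul_fin_two]
  simp [mul_comm]

theorem rM_ww : rM ρ ⟨0, 1, 12, 0⟩ = ρ ww := by
  apply rM_eq
  show !![((0 : ℕ) : ZMod 13), ((1 : ℕ) : ZMod 13); ((12 : ℕ) : ZMod 13), ((0 : ℕ) : ZMod 13)] = !![0, 1; -1, 0]
  have : ((12 : ℕ) : ZMod 13) = -1 := by decide
  rw [this]
  simp

theorem rM_tt : rM ρ ⟨5, 0, 0, 8⟩ = ρ tt := by
  apply rM_eq
  show !![((5 : ℕ) : ZMod 13), ((0 : ℕ) : ZMod 13); ((0 : ℕ) : ZMod 13), ((8 : ℕ) : ZMod 13)] = !![5, 0; 0, 8]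
  simp

theorem rM_tw : rM ρ ⟨0, 5, 5, 0⟩ = ρ (tt * ww) := by
  apply rM_eq
  decide

theorem rM_one : rM ρ ⟨1, 0, 0, 1⟩ = LinearMap.id := by
  rw [rM_eq (g := 1) (by decide), map_one]
  rfl

theorem rM_eta : rM ρ ⟨3, 0, 0, 9⟩ = ρ eta := rM_eq (by decide)

theorem rM_eta2 : rM ρ ⟨9, 0, 0, 3⟩ = ρ (eta * eta) := rM_eq (by decide)

/-- the sum over `U` -/
noncomputable def EU (ρ : Representation (ZMod 3) Q V) : V →ₗ[ZMod 3] V := ∑ a : ZMod 13, ρ (uu a)

theorem uu_add (a b : ZMod 13) : uu (a + b) = uu a * uu b := by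
  apply Subtype.ext
  show !![1, a + b; 0, 1] = !![1, a; 0, 1] * !![1, b; 0, 1]
  rw [Matrix.mul_fin_two]
  simp [add_comm]

theorem uu_EU (b : ZMod 13) (v : V) : ρ (uu b) (EU ρ v) = EU ρ v := by
  unfold EU
  rw [LinearMap.sum_apply, map_sum]
  refine Fintype.sum_equiv (Equiv.addLeft b) _ _ fun a => ?_
  rw [Equiv.coe_addLeft, uu_add, map_mul]
  rfl

theorem tt_uu (a : ZMod 13) : tt * uu a = uu (-a) * tt := by
  apply Subtype.ext
  show !![5, 0; 0, 8] * !![1, a; 0, 1] = !![1, -a; 0, 1] * !![5, 0; 0, 8]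
  rw [Matrix.mul_fin_two, Matrix.mul_fin_two]
  have : (5 : ZMod 13) = -8 := by decide
  simp only [this]
  simp [mul_comm]

theorem tt_EU (v : V) : ρ tt (EU ρ v) = EU ρ (ρ tt v) := by
  unfold EU
  rw [LinearMap.sum_apply, LinearMap.sum_apply, map_sum]
  refine Fintype.sum_equiv (Equiv.neg _) _ _ fun a => ?_
  rw [Equiv.neg_apply, ← Module.End.mul_apply, ← Module.End.mul_apply, ← map_mul, ← map_mul, tt_uu]

theorem tt_tt : tt * tt = -1 := by decide

theorem ww_ww : ww * ww = -1 := by decide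

theorem K26_eq (v : V) : opK ρ K26 v = - EU ρ (v + ρ tt v) := by
  have e1 : ∑ a : ZMod 13, rM ρ ⟨1, a.val, 0, 1⟩ v = EU ρ v := by
    unfold EU
    rw [LinearMap.sum_apply]
    exact Finset.sum_congr rfl fun a _ => by rw [rM_uu]
  have e2 : ∑ a : ZMod 13, rM ρ ⟨5, 8 * a.val, 0, 8⟩ v = EU ρ (ρ tt v) := by
    unfold EU
    rw [LinearMap.sum_apply]
    exact Finset.sum_congr rfl fun a _ => by rw [rM_uut]; rfl
  unfold K26
  rw [opK_append, opK_range 2 (fun a => ⟨1, a, 0, 1⟩), opK_range 2 (fun a => ⟨5, 8 * a, 0, 8⟩), Nat.cast_ofNat,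
    two_smul', two_smul', map_add, neg_add, e1, e2]

theorem K26_mem (hneg : ρ (-1) = 1) (v : V) : opK ρ K26 v ∈ W1 ρ := by
  rw [K26_eq]
  refine ⟨fun a => by rw [map_neg, uu_EU], ?_⟩
  have h1 : ρ tt (ρ tt v) = v := by
    rw [← Module.End.mul_apply, ← map_mul, tt_tt, hneg]
    rfl
  rw [map_neg, tt_EU, map_add, h1, add_comm]

theorem KU_eq (v : V) : opK ρ KU v = EU ρ v := by
  unfold KU
  rw [opK_range, Nat.cast_one, one_smul]
  unfold EU
  rw [LinearMap.sum_apply]
  exact Finset.sum_congr rfl fun a _ => by rw [rM_uu]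

theorem sg_eq (v : V) : opK ρ KU (opK ρ Kw v) + opK ρ KN v = sg ρ v := by
  have h1 : opK ρ Kw v = ρ ww v := by simp [opK, Kw, rM_ww]
  have h2 : opK ρ KN v = v + ρ eta v + ρ (eta * eta) v := by
    simp [opK, KN, rM_one, rM_eta, rM_eta2, add_assoc]
  rw [h1, h2, KU_eq]
  unfold sg om EU
  simp only [LinearMap.add_apply, LinearMap.sum_apply, LinearMap.comp_apply, LinearMap.id_apply]
  abel

theorem evL_sgL {x : ℕ → V} (h : Good ρ x) (L : List Tm) : evL ρ x (sgL L) = sg ρ (evL ρ x L) := by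
  unfold sgL
  rw [evL_append, evL_gop h (by decide +kernel), evL_gop h (by decide +kernel), evL_gop h (by decide +kernel), sg_eq]

theorem ev_one {x : ℕ → V} (b : ℕ) : evL ρ x [⟨b, 1, ⟨1, 0, 0, 1⟩⟩] = x b := by
  simp [evL, ev, rM_one]

theorem sg_mem {v : V} (hneg : ρ (-1) = 1) (hv : v ∈ W1 ρ) : sg ρ v ∈ W1 ρ := by
  have htt : ρ tt (ρ tt v) = v := by rw [hv.2, hv.2]
  have h1 : om ρ v = EU ρ (ρ ww v) := by
    unfold om EU
    simp only [LinearMap.sum_apply, LinearMap.comp_apply]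
  have hw : ρ tt (ρ ww v) = ρ ww v := by
    have h2 : tt * ww = -(ww * tt) := by decide
    rw [← Module.End.mul_apply, ← map_mul, h2, neg_act hneg, map_mul, Module.End.mul_apply, hv.2]
  have hu : ∀ a c : ZMod 13, ∀ g : Q, uu a * g = g * uu c → ρ (uu a) (ρ g v) = ρ g v := by
    intro a c g h
    rw [← Module.End.mul_apply, ← map_mul, h, map_mul, Module.End.mul_apply, hv.1]
  have he : ∀ a : ZMod 13, uu a * eta = eta * uu (3 * a) := by
    intro a
    apply Subtype.ext
    show !![1, a; 0, 1] * !![3, 0; 0, 9] = !![3, 0; 0, 9] * !![1, 3 * a; 0, 1]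
    rw [Matrix.mul_fin_two, Matrix.mul_fin_two]
    have : a * 9 = 3 * (3 * a) := by ring
    simp [this]
  have he2 : ∀ a : ZMod 13, uu a * (eta * eta) = (eta * eta) * uu (3 * (3 * a)) := by
    intro a
    rw [← mul_assoc, he, mul_assoc, he, mul_assoc]
  have ht1 : tt * eta = eta * tt := by decide
  unfold sg
  simp only [LinearMap.add_apply, LinearMap.id_apply, h1]
  refine ⟨fun a => ?_, ?_⟩
  · rw [map_add, map_add, map_add, uu_EU, hv.1, hu a _ _ (he a), hu a _ _ (he2 a)]
  · rw [map_add, map_add, map_add, tt_EU, hw, hv.2]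
    have e1 : ρ tt (ρ eta v) = ρ eta v := by
      rw [← Module.End.mul_apply, ← map_mul, ht1, map_mul, Module.End.mul_apply, hv.2]
    have e2 : ρ tt (ρ (eta * eta) v) = ρ (eta * eta) v := by
      rw [← Module.End.mul_apply, ← map_mul, ← mul_assoc, ht1, mul_assoc, ht1, ← mul_assoc, map_mul,
        Module.End.mul_apply, hv.2]
    rw [e1, e2]

theorem sg_sg (hneg : ρ (-1) = 1) {v : V} (hv : v ∈ W1 ρ) : sg ρ (sg ρ v) = v := by
  have h := good hneg (p := (0, 0, 0, 0, v)) (Submodule.zero_mem _) (Submodule.zero_mem _) (Submodule.zero_mem _)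
    (Submodule.zero_mem _) hv
  have h1 := eq_of_chk h chks
  rw [evL_sgL h, evL_sgL h] at h1
  unfold T4 at h1
  rw [ev_one] at h1
  exact h1

end

section main

variable {V : Type*} [AddCommGroup V] [Module (ZMod 3) V] {ρ : Representation (ZMod 3) Q V}

/-- the value of a formal sum as a linear map in the basic vectors -/
noncomputable def evM (ρ : Representation (ZMod 3) Q V) (T : List Tm) : (V × V × V × V × V) →ₗ[ZMod 3] V :=
  (T.map fun t => (t.c : ZMod 3) • (rM ρ t.g ∘ₗ XL t.b)).sum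

theorem evM_apply (T : List Tm) (p : V × V × V × V × V) : evM ρ T p = evL ρ (fun b => XL b p) T := by
  induction T with
  | nil => simp [evM, evL]
  | cons t T ih =>
    rw [evL_cons, ← ih]
    unfold evM ev
    rw [List.map_cons, List.sum_cons]
    rfl

/-- the domain -/
abbrev Dm (ρ : Representation (ZMod 3) Q V) : Submodule (ZMod 3) (V × V × V × V × V) :=
  (fixP ρ P14).prod ((fixP ρ P14).prod ((fixP ρ P14).prod ((W2 ρ).prod (XX ρ (-1)))))

/-- `1 + sg` -/
noncomputable def isg (ρ : Representation (ZMod 3) Q V) : V →ₗ[ZMod 3] V := LinearMap.id + sg ρ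

/-- the map -/
noncomputable def Ph (ρ : Representation (ZMod 3) Q V) : (V × V × V × V × V) →ₗ[ZMod 3] V × V × V :=
  LinearMap.prod (opK ρ KV4 ∘ₗ evM ρ T1) (LinearMap.prod (isg ρ ∘ₗ opK ρ K26 ∘ₗ evM ρ T2)
    (isg ρ ∘ₗ opK ρ K26 ∘ₗ evM ρ T3))

theorem V4_mem (hneg : ρ (-1) = 1) (v : V) : opK ρ KV4 v ∈ fixP ρ PV4 := by
  have h0 : opK ρ KV4 v = v + ρ tt v + ρ ww v + ρ (tt * ww) v := by
    simp [opK, KV4, rM_one, rM_tt, rM_ww, rM_tw, add_assoc]
  rw [h0]
  have e : ∀ g h k : Q, (g * h = k ∨ g * h = -k) → ρ g (ρ h v) = ρ k v := by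
    intro g h k hk
    rw [← Module.End.mul_apply, ← map_mul]
    rcases hk with hk | hk
    · rw [hk]
    · rw [hk, neg_act hneg]
  have e1 : ρ (1 : Q) v = v := by rw [map_one]; rfl
  rintro g (rfl | rfl)
  · rw [map_add, map_add, map_add, e tt tt 1 (by decide), e tt ww (tt * ww) (by decide), e tt (tt * ww) ww (by decide),
      e1]
    abel
  · rw [map_add, map_add, map_add, e ww tt (tt * ww) (by decide), e ww ww 1 (by decide), e ww (tt * ww) tt (by decide),
      e1]
    abel

theorem XX_mem (hneg : ρ (-1) = 1) (v : V) : isg ρ (opK ρ K26 v) ∈ XX ρ 1 := by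
  have h1 := K26_mem hneg v
  have h2 := sg_mem hneg h1
  have h3 : isg ρ (opK ρ K26 v) ∈ W1 ρ := Submodule.add_mem _ h1 h2
  refine ⟨h3.1, h3.2, ?_⟩
  show sg ρ (opK ρ K26 v + sg ρ (opK ρ K26 v)) = (1 : ZMod 3) • (opK ρ K26 v + sg ρ (opK ρ K26 v))
  rw [map_add, sg_sg hneg h1, one_smul, add_comm]

theorem Ph_inj (hneg : ρ (-1) = 1) {p : V × V × V × V × V} (hp : p ∈ Dm ρ) (h : Ph ρ p = 0) : p = 0 := by
  have h4 : p.2.2.2.2 ∈ W1 ρ := ⟨hp.2.2.2.2.1, hp.2.2.2.2.2.1⟩
  have hG := good hneg hp.1 hp.2.1 hp.2.2.1 hp.2.2.2.1 h4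
  have hΦ1 : opK ρ KV4 (evM ρ T1 p) = 0 := congrArg (fun q => q.1) h
  have hΦ2 : isg ρ (opK ρ K26 (evM ρ T2 p)) = 0 := congrArg (fun q => q.2.1) h
  have hΦ3 : isg ρ (opK ρ K26 (evM ρ T3 p)) = 0 := congrArg (fun q => q.2.2) h
  rw [evM_apply] at hΦ1 hΦ2 hΦ3
  have hF1 : evL ρ (fun b => XL b p) F1 = 0 := by
    rw [← eq_of_chk hG chk1, evL_gop hG (by decide +kernel), hΦ1]
  have hns : ∀ v : V, ((2 : ℕ) : ZMod 3) • v = 0 → v = 0 := by
    intro v hv
    rw [Nat.cast_ofNat, two_smul', neg_eq_zero] at hv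
    exact hv
  have hF2 : evL ρ (fun b => XL b p) F2 = 0 := by
    apply hns
    rw [← evL_scale, ← eq_of_chk hG chk2]
    show evL ρ (fun b => XL b p) (gop K26 T2 ++ sgL (gop K26 T2)) = 0
    rw [evL_append, evL_sgL hG, evL_gop hG (by decide +kernel)]
    exact hΦ2
  have hF3 : evL ρ (fun b => XL b p) F3 = 0 := by
    apply hns
    rw [← evL_scale, ← eq_of_chk hG chk3]
    show evL ρ (fun b => XL b p) (gop K26 T3 ++ sgL (gop K26 T3)) = 0
    rw [evL_append, evL_sgL hG, evL_gop hG (by decide +kernel)]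
    exact hΦ3
  have hF4 : evL ρ (fun b => XL b p) F4 = 0 := by
    rw [← eq_of_chk hG chk4, evL_append, evL_sgL hG]
    unfold T4
    rw [ev_one]
    have h5 : sg ρ p.2.2.2.2 = (-1 : ZMod 3) • p.2.2.2.2 := hp.2.2.2.2.2.2
    show p.2.2.2.2 + sg ρ p.2.2.2.2 = 0
    rw [h5, neg_smul, one_smul, add_neg_cancel]
  have hz : ∀ i, evL ρ (fun b => XL b p) ([F1, F2, F3, F4].getD i []) = 0 := by
    intro i
    match i with
    | 0 => exact hF1
    | 1 => exact hF2
    | 2 => exact hF3
    | 3 => exact hF4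
    | n + 4 => rfl
  have fin : ∀ (b : ℕ) (K : List (ℕ × M4)) (sol : List (ℕ × ℕ × M4)), K.all (fun n => n.2.ok) = true →
      sol.all (fun s => s.2.2.ok) = true → chkEq (gop K (comb [F1, F2, F3, F4] sol)) [⟨b, 1, ⟨1, 0, 0, 1⟩⟩] = true →
      XL b p = 0 := by
    intro b K sol hK hs hc
    have h6 := eq_of_chk hG hc
    rw [ev_one, evL_gop hG hK, evL_comb hG _ hz _ hs, map_zero] at h6
    exact h6.symm
  have e0 : p.1 = 0 := fin 0 K14 sol0 (by decide +kernel) (by decide +kernel) chks0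
  have e1 : p.2.1 = 0 := fin 1 K14 sol1 (by decide +kernel) (by decide +kernel) chks1
  have e2 : p.2.2.1 = 0 := fin 2 K14 sol2 (by decide +kernel) (by decide +kernel) chks2
  have e3 : p.2.2.2.1 = 0 := fin 3 KZ sol3 (by decide +kernel) (by decide +kernel) chks3
  have e4 : p.2.2.2.2 = 0 := fin 4 K26 sol4 (by decide +kernel) (by decide +kernel) chks4
  exact Prod.ext e0 (Prod.ext e1 (Prod.ext e2 (Prod.ext e3 e4)))

theorem finrank_prod' {A B : Type*} [AddCommGroup A] [AddCommGroup B] [Module (ZMod 3) A] [Module (ZMod 3) B]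
    [Module.Finite (ZMod 3) A] [Module.Finite (ZMod 3) B] (S : Submodule (ZMod 3) A) (T : Submodule (ZMod 3) B) :
    finrank (ZMod 3) ↥(S.prod T) = finrank (ZMod 3) S + finrank (ZMod 3) T := by
  let e : ↥(S.prod T) ≃ₗ[ZMod 3] (↥S × ↥T) :=
    { toFun := fun p => (⟨p.1.1, p.2.1⟩, ⟨p.1.2, p.2.2⟩)
      map_add' := fun _ _ => rfl
      map_smul' := fun _ _ => rfl
      invFun := fun q => ⟨(q.1.1, q.2.1), q.1.2, q.2.2⟩
      left_inv := fun _ => rfl
      right_inv := fun _ => rfl }
  rw [e.finrank_eq, Module.finrank_prod]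

end main

theorem r2 : R2 := by
  intro V _ _ _ ρ hneg
  have key : finrank (ZMod 3) ↥(Dm ρ) ≤ finrank (ZMod 3) ↥((fixP ρ PV4).prod ((XX ρ 1).prod (XX ρ 1))) := by
    refine LinearMap.finrank_le_finrank_of_injective (f := (Ph ρ).restrict (p := Dm ρ)
      (q := (fixP ρ PV4).prod ((XX ρ 1).prod (XX ρ 1))) fun p _ => ⟨V4_mem hneg _, XX_mem hneg _, XX_mem hneg _⟩) ?_
    rw [← LinearMap.ker_eq_bot, eq_bot_iff]
    rintro ⟨p, hp⟩ h
    rw [LinearMap.mem_ker] at h
    have h2 : Ph ρ p = 0 := congrArg Subtype.val h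
    rw [Submodule.mem_bot]
    exact Subtype.ext (Ph_inj hneg hp h2)
  simp only [Dm, finrank_prod'] at key
  omega

end Cfsg.Agent.H540.E8C.L13
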